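import Cfsg.Agent.Lib.ToddCox.J2T.TabD0
set_option autoImplicit false
set_option maxRecDepth 100000
namespace Cfsg.Agent.Lib.ToddCox.J2T
def tT_0_2 (j : ℕ) : ℕ := bif Nat.blt j 1 then T_0 else T_1
def tT_3_5 (j : ℕ) : ℕ := bif Nat.blt j 4 then T_3 else T_4
def tT_2_5 (j : ℕ) : ℕ := bif Nat.blt j 3 then T_2 else (tT_3_5 j)
def tT_0_5 (j : ℕ) : ℕ := bif Nat.blt j 2 then (tT_0_2 j) else (tT_2_5 j)
def tT_5_7 (j : ℕ) : ℕ := bif Nat.blt j 6 then T_5 else T_6
def tT_8_10 (j : ℕ) : ℕ := bif Nat.blt j 9 then T_8 else T_9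
def tT_7_10 (j : ℕ) : ℕ := bif Nat.blt j 8 then T_7 else (tT_8_10 j)
def tT_5_10 (j : ℕ) : ℕ := bif Nat.blt j 7 then (tT_5_7 j) else (tT_7_10 j)
def tT_0_10 (j : ℕ) : ℕ := bif Nat.blt j 5 then (tT_0_5 j) else (tT_5_10 j)
def tT (j : ℕ) : ℕ := (tT_0_10 j)
noncomputable def tC (h : ℕ) : ℕ := Nat.rec (motive := fun _ => ℕ) (tT 0) (fun n _ => tT (Nat.succ n)) h
noncomputable def tab (y i : ℕ) : ℕ := Nat.land (Nat.shiftRight (tC (Nat.add (Nat.mul y 2) (Nat.shiftRight i 8))) (Nat.mul (Nat.land i 255) 18)) 262143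
def prT_1_3 (j : ℕ) : ℕ := bif Nat.blt j 2 then nat_lit 0xee060000ed020000ed060000ec020000ec040000eb000000ea060000e9020000e9040000e8040000e6060000e5060000e3000000e3060000e1000000e1060000e0020000e0040000df040000de060000dd020000dc040000db060000da020000d8060000d6000000d6060000d5020000d5060000d3020000d3040000d2060000d1060000d0040000d0040000ce060000cd000000cd060000ca000000ca060000c9020000c9040000c8060000c7040000c6060000c5040000c5000000c5040000c4060000c3020000c3000000c1060000c0020000c0040000bf060000be040000bd060000bc020000bc060000ba000000ba060000b9020000b9040000b8060000b7040000b7060000b5000000b5060000b4020000b4040000b3060000b2020000b2060000b1020000b1040000b0060000af000000af040000ae060000ad020000ad060000ac000000ac1000000e020000a9020000a8000000a4040000a2000000a00400009e0600009b020000990400009706000095060000930200009204000090000000900400008e0600008d0200008d0600008b0400008a0600008506000081040000810000008106000080020000800400007f0400007e0200007d0600007b0600007a040000790600007804000077060000760600007404000073060000720200007104000070000000700400006f0600006e0200006e0400006d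 else nat_lit 0x6000112040001110200010d0600010806000104000001040600010202000101060000ff060000fd000000fd060000fb020000fa020000f9060000f7000000f7020000f6040000f3060000f2020000f2060000f0020000f0040000ef060000ee
def prT_0_3 (j : ℕ) : ℕ := bif Nat.blt j 1 then nat_lit 0x600006c0600006b0000006906000067000000670400006606000065020000650600006300000063000000620400006106000060020000600000005f0200005e0600005c0000005c0600005b0400005a0400005900000059020000580600005602000056060000540000005406000053020000530200005206000050000000500200004f0000004e0600004d0200004d0400004c0000004c0200004b0400004a060000490000004906000048020000480400004700000046060000450200004504000044020000430400004202000041000000400600003f0200003f0400003e0600003d0200003c0400003b0600003a040000390600003800000037020000360400003506000034020000340400003306000032000000320600003102000031020000300400002f0600002e0000002e0600002d0200002d0400002c0400002b0600002a0200002a0400002900000029060000280400002702000027040000260000002602000025100000050600002206000021040000200400001e0600001c0600001a06000018060000160200001606000014000000140600001302000013060000110000001106000010020000100400000f0600000d0200000d0400000c0600000b0600000a0400000906000008000000080400000706000006020000060600000400000004060000030200000304000002060000011000000000000000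 else (prT_1_3 j)
def prT (j : ℕ) : ℕ := (prT_0_3 j)
noncomputable def prC (h : ℕ) : ℕ := Nat.rec (motive := fun _ => ℕ) (prT 0) (fun n _ => prT (Nat.succ n)) h
noncomputable def pr (i : ℕ) : ℕ := Nat.land (Nat.shiftRight (prC (Nat.shiftRight i 7)) (Nat.mul (Nat.land i 127) 32)) 4294967295
def invR (y : ℕ) : ℕ := invOf 0x40c2040 y
def Rc : List (List ℕ) := [[nat_lit 0, nat_lit 0],
  [nat_lit 1, nat_lit 1],
  [nat_lit 1, nat_lit 0, nat_lit 1, nat_lit 0, nat_lit 1, nat_lit 0, nat_lit 1, nat_lit 0, nat_lit 1, nat_lit 0],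
  [nat_lit 2, nat_lit 2],
  [nat_lit 2, nat_lit 0, nat_lit 2, nat_lit 0],
  [nat_lit 2, nat_lit 1, nat_lit 2, nat_lit 1, nat_lit 2, nat_lit 1],
  [nat_lit 2, nat_lit 1, nat_lit 0, nat_lit 1, nat_lit 0, nat_lit 2, nat_lit 1, nat_lit 2, nat_lit 0, nat_lit 1, nat_lit 2, nat_lit 0, nat_lit 1, nat_lit 0, nat_lit 1],
  [nat_lit 3, nat_lit 3],
  [nat_lit 3, nat_lit 0, nat_lit 3, nat_lit 0],
  [nat_lit 3, nat_lit 1, nat_lit 3, nat_lit 1],
  [nat_lit 3, nat_lit 2, nat_lit 3, nat_lit 2, nat_lit 3, nat_lit 2, nat_lit 3, nat_lit 2, nat_lit 3, nat_lit 2, nat_lit 3, nat_lit 2, nat_lit 3, nat_lit 2, nat_lit 3, nat_lit 2],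
  [nat_lit 3, nat_lit 2, nat_lit 3, nat_lit 2, nat_lit 3, nat_lit 2, nat_lit 3, nat_lit 2, nat_lit 0],
  [nat_lit 4, nat_lit 4],
  [nat_lit 4, nat_lit 0, nat_lit 4, nat_lit 0],
  [nat_lit 4, nat_lit 1, nat_lit 4, nat_lit 1],
  [nat_lit 4, nat_lit 2, nat_lit 4, nat_lit 2],
  [nat_lit 4, nat_lit 3, nat_lit 4, nat_lit 3, nat_lit 4, nat_lit 3],
  [nat_lit 4, nat_lit 3, nat_lit 2, nat_lit 3, nat_lit 2, nat_lit 1, nat_lit 3, nat_lit 2, nat_lit 3, nat_lit 2, nat_lit 1, nat_lit 3, nat_lit 2, nat_lit 3, nat_lit 2, nat_lit 1, nat_lit 3, nat_lit 2, nat_lit 3, nat_lit 2, nat_lit 1, nat_lit 3, nat_lit 2, nat_lit 3, nat_lit 2, nat_lit 1, nat_lit 4, nat_lit 3, nat_lit 2, nat_lit 3, nat_lit 2, nat_lit 1, nat_lit 3, nat_lit 2, nat_lit 3, nat_lit 2, nat_lit 1, nat_lit 3, nat_lit 2, nat_lit 3, nat_lit 2, nat_lit 1, nat_lit 3, nat_lit 2, nat_lit 3, nat_lit 2, nat_lit 1, nat_lit 3, nat_lit 2, nat_lit 3, nat_lit 2, nat_lit 1, nat_lit 4, nat_lit 3, nat_lit 2, nat_lit 3, nat_lit 2, nat_lit 1, nat_lit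 3, nat_lit 2, nat_lit 3, nat_lit 2, nat_lit 1, nat_lit 3, nat_lit 2, nat_lit 3, nat_lit 2, nat_lit 1, nat_lit 3, nat_lit 2, nat_lit 3, nat_lit 2, nat_lit 1, nat_lit 3, nat_lit 2, nat_lit 3, nat_lit 2, nat_lit 1]]
def Tw : List (List ℕ) := [[nat_lit 0],
  [nat_lit 1],
  [nat_lit 2],
  [nat_lit 3],
  [nat_lit 0],
  [nat_lit 1],
  [nat_lit 2],
  [nat_lit 3],
  [nat_lit 4]]
def Sw : List (List ℕ) := [[nat_lit 0],
  [nat_lit 1],
  [nat_lit 2],
  [nat_lit 3]]
def ysR : List ℕ := [nat_lit 0, nat_lit 1, nat_lit 2, nat_lit 3, nat_lit 4]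
noncomputable def chkAll (i : ℕ) : Bool := bif Nat.blt i 280 then and (chkPt tab invR 280 ysR Rc i) (bif Nat.beq i 0 then true else chkReachPt tab Tw i (pr i)) else true
end Cfsg.Agent.Lib.ToddCox.J2T
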